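import Mathlib.RingTheory.Ideal.Operations
import Mathlib.RingTheory.Noetherian.Basic

/-!
# Avoidance for finitely many prime submodules

* `exists_notMem`: given finitely many submodules `N i` of `M`, each "prime" for a prime ideal `p i`, the `p i` being
  distinct, there is an element of `M` in none of the `N i`.
* `exists_family`: the iterated version.
-/

set_option autoImplicit false

namespace K953.Avoid

variable {R M : Type*} [CommRing R] [AddCommGroup M] [Module R M]

/-- `N` is a proper submodule containing `p M`, with elements outside `p` acting injectively on `M / N` -/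
structure IsPr (p : Ideal R) (N : Submodule R M) : Prop where
  ne_top : N ≠ ⊤
  smul_mem : ∀ a ∈ p, ∀ m, a • m ∈ N
  mem_of_smul : ∀ a, a ∉ p → ∀ m, a • m ∈ N → m ∈ N

theorem exists_notMem {ι : Type*} (s : Finset ι) (p : ι → Ideal R) (hp : ∀ i ∈ s, (p i).IsPrime)
    (hinj : Set.InjOn p s) (N : ι → Submodule R M) (hN : ∀ i ∈ s, IsPr (p i) (N i)) : ∃ m, ∀ i ∈ s, m ∉ N i := by
  classical
  induction s using Finset.strongInduction with
  | H s ih =>
    rcases s.eq_empty_or_nonempty with rfl | hs
    · exact ⟨0, by simp⟩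
    obtain ⟨k, hk, hmin⟩ := s.exists_minimalFor p hs
    obtain ⟨m, hm⟩ := ih (s.erase k) (Finset.erase_ssubset hk) (fun i hi => hp i (Finset.mem_of_mem_erase hi))
      (hinj.mono fun i hi => Finset.mem_of_mem_erase hi) (fun i hi => hN i (Finset.mem_of_mem_erase hi))
    by_cases hmk : m ∈ N k
    · have hle : ∀ i ∈ s.erase k, ¬ p i ≤ p k := by
        intro i hi hle
        have h1 := hmin (Finset.mem_of_mem_erase hi) hle
        exact Finset.ne_of_mem_erase hi (hinj (Finset.mem_of_mem_erase hi) hk (le_antisymm hle h1))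
      have hex : ∃ a ∈ ⨅ i ∈ s.erase k, p i, a ∉ p k := by
        by_contra hcon
        push Not at hcon
        have h1 : (s.erase k).inf p ≤ p k := by
          intro x hx
          refine hcon x ?_
          rw [Finset.inf_eq_iInf] at hx
          exact hx
        have := hp k hk
        obtain ⟨i, hi, hi'⟩ := (Ideal.IsPrime.inf_le' (hp k hk)).1 h1
        exact hle i hi hi'
      obtain ⟨a, ha, hak⟩ := hex
      obtain ⟨m', hm'⟩ : ∃ m', m' ∉ N k := by
        by_contra hcon
        push Not at hcon
        exact (hN k hk).ne_top (eq_top_iff.2 fun x _ => hcon x)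
      refine ⟨m + a • m', fun i hi => ?_⟩
      by_cases hik : i = k
      · subst hik
        intro h
        exact hm' ((hN i hk).mem_of_smul a hak m' ((Submodule.add_mem_iff_right _ hmk).1 h))
      · have hi' : i ∈ s.erase k := Finset.mem_erase.2 ⟨hik, hi⟩
        have ha' : a ∈ p i := by
          simp only [Submodule.mem_iInf] at ha
          exact ha i hi'
        intro h
        exact hm i hi' ((Submodule.add_mem_iff_left _ ((hN i hi).smul_mem a ha' m')).1 h)
    · refine ⟨m, fun i hi => ?_⟩
      by_cases hik : i = k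
      · subst hik
        exact hmk
      · exact hm i (Finset.mem_erase.2 ⟨hik, hi⟩)

/-- iterated avoidance: extend a family until it has `r` members, keeping the properties `P i` -/
theorem exists_family {ι : Type*} (s : Finset ι) (p : ι → Ideal R) (hp : ∀ i ∈ s, (p i).IsPrime)
    (hinj : Set.InjOn p s) (P : ι → ∀ m : ℕ, (Fin m → M) → Prop) (r : ℕ)
    (hP : ∀ i ∈ s, ∀ m < r, ∀ g : Fin m → M, P i m g → ∃ N : Submodule R M, IsPr (p i) N ∧
      ∀ x, x ∉ N → P i (m + 1) (Fin.cons x g)) (m : ℕ) (hm : m ≤ r) (g : Fin m → M) (hg : ∀ i ∈ s, P i m g) :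
    ∃ g' : Fin r → M, Set.range g ⊆ Set.range g' ∧ ∀ i ∈ s, P i r g' := by
  induction h : r - m generalizing m with
  | zero =>
    obtain rfl : m = r := by omega
    exact ⟨g, le_rfl, hg⟩
  | succ d ih =>
    have hmr : m < r := by omega
    choose! N hN using fun i (hi : i ∈ s) => hP i hi m hmr g (hg i hi)
    obtain ⟨x, hx⟩ := exists_notMem s p hp hinj N (fun i hi => (hN i hi).1)
    obtain ⟨g', hg1, hg2⟩ := ih (m + 1) (by omega) (Fin.cons x g) (fun i hi => (hN i hi).2 x (hx i hi)) (by omega)
    refine ⟨g', fun y hy => hg1 ?_, hg2⟩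
    obtain ⟨j, rfl⟩ := hy
    exact ⟨j.succ, by simp⟩

end K953.Avoid
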