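import Groth.Agent.BlochOgus.K953.LiftGeom

/-!
# Equations lifting a smooth closed subscheme near finitely many points
-/

set_option autoImplicit false

universe u

open CategoryTheory CategoryTheory.Limits AlgebraicGeometry
open Groth.Agent K953.LiftGeom

namespace K953.LiftEqs

variable {X₁ Z₁ Y Z : Scheme.{u}} [IsAffine Y]

theorem pt_injective : Function.Injective (pt : Y → Ideal Γ(Y, ⊤)) := by
  intro t t' h
  have hV := isAffineOpen_top Y
  have h1 : hV.primeIdealOf ⟨t, trivial⟩ = hV.primeIdealOf ⟨t', trivial⟩ := PrimeSpectrum.ext h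
  have h2 := congrArg hV.fromSpec h1
  rwa [hV.fromSpec_primeIdealOf, hV.fromSpec_primeIdealOf] at h2

theorem not_le_pt (i : Z ⟶ Y) [IsClosedImmersion i] (t : Y) (ht : t ∉ Set.range i) : ∃ x : kk i, (x : Γ(Y, ⊤)) ∉ pt t := by
  by_contra hcon
  push Not at hcon
  apply ht
  have h1 : t ∈ (i.ker.support : Set Y) := by
    refine (i.ker.mem_support_iff_of_mem (U := ⟨⊤, isAffineOpen_top Y⟩) trivial).2 ?_
    rw [Scheme.mem_zeroLocus_iff]
    intro f hf
    exact (mem_pt_iff t f).1 (hcon ⟨f, hf⟩)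
  rw [Scheme.Hom.support_ker, IsClosed.closure_eq (i.isClosedEmbedding.isClosed_range)] at h1
  exact h1

theorem isPr_pt (i : Z ⟶ Y) [IsClosedImmersion i] (t : Y) (ht : t ∉ Set.range i) :
    Avoid.IsPr (pt t) (Submodule.comap (kk i).subtype (pt t)) := by
  refine ⟨fun h => ?_, fun a ha m => ?_, fun a ha m hm => ?_⟩
  · obtain ⟨x, hx⟩ := not_le_pt i t ht
    exact hx ((Submodule.eq_top_iff'.1 h) x)
  · exact Ideal.mul_mem_right _ _ ha
  · exact ((inferInstance : (pt t).IsPrime).mem_or_mem hm).resolve_left ha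

theorem basicOpen_disjoint {r : ℕ} (h : Fin r → Γ(Y, ⊤)) (j : Fin r) (w : (eqs h).subscheme) :
    (eqs h).subschemeι w ∉ Y.basicOpen (h j) := by
  intro hw
  have h1 : h j ∈ RingHom.ker ((eqs h).subschemeι.app ⊤).hom := by
    rw [← (eqs h).subschemeι.ker_apply ⟨⊤, isAffineOpen_top Y⟩, Scheme.IdealSheafData.ker_subschemeι, eqs_ideal]
    refine Ideal.subset_span ⟨j, ?_⟩
    have : (homOfLE (le_top : (⊤ : Y.Opens) ≤ ⊤)).op = 𝟙 _ := rfl
    rw [this, Y.presheaf.map_id]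
    rfl
  have h2 : w ∈ (eqs h).subschemeι ⁻¹ᵁ Y.basicOpen (h j) := hw
  rw [Scheme.preimage_basicOpen, show (eqs h).subschemeι.app ⊤ (h j) = 0 from h1, Scheme.basicOpen_zero] at h2
  exact h2

variable (i₁ : Z₁ ⟶ X₁) (i : Z ⟶ Y) [IsClosedImmersion i₁] [IsClosedImmersion i]
    (F : Y ⟶ X₁) (g : Z ⟶ Z₁) (n e : ℕ) [hF : SmoothOfRelativeDimension n F] [hgs : SmoothOfRelativeDimension e g]
    (hsq : i ≫ F = g ≫ i₁)

include hsq hF hgs in
theorem exists_eqs (T : Set Y) (hT : T.Finite) (hcase : e < n ∨ T ⊆ Set.range i) :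
    ∃ (r : ℕ) (h : Fin r → Γ(Y, ⊤)), (∀ j, h j ∈ kk i) ∧
      (∀ w, (eqs h).subschemeι w ∈ T → (((eqs h).subschemeι ≫ F).stalkMap w).hom.FormallySmooth) ∧
      ∀ t ∈ T, ∃ V' : Y.affineOpens, t ∈ V'.1 ∧ i.ker.ideal V' = (i₁.ker.comap F ⊔ eqs h).ideal V' := by
  classical
  have hex := exists_pred i₁ i F g n e hsq
  choose he P hP0 hP1 hP2 using hex
  -- the predicate at a point
  let Q : Y → ∀ m, (Fin m → kk i) → Prop := fun t m g => ∀ z, i z = t → P z m g
  have hinj : Function.Injective i := i.isClosedEmbedding.injective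
  rcases Nat.lt_or_ge e n with hen | hen
  · let s : Finset Y := hT.toFinset
    have key : ∀ t, ∃ N : Submodule Γ(Y, ⊤) (kk i), Avoid.IsPr (pt t) N ∧
        (∀ x, x ∉ N → Q t 1 (Fin.cons x Fin.elim0)) ∧ (t ∉ Set.range i → ∀ x : kk i, x ∉ N → (x : Γ(Y, ⊤)) ∉ pt t) := by
      intro t
      by_cases ht : t ∈ Set.range i
      · obtain ⟨z, rfl⟩ := ht
        obtain ⟨N, hN, hN'⟩ := hP1 z 0 (by omega) Fin.elim0 (hP0 z _)
        refine ⟨N, hN, fun x hx z' hz' => ?_, fun h => absurd ⟨z, rfl⟩ h⟩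
        obtain rfl := hinj hz'
        exact hN' x hx
      · exact ⟨_, isPr_pt i t ht, fun x hx z hz => absurd ⟨z, hz⟩ ht, fun _ x hx => hx⟩
    choose N hN hN1 hN2 using key
    obtain ⟨x, hx⟩ := Avoid.exists_notMem s pt (fun t _ => inferInstance) pt_injective.injOn N (fun t _ => hN t)
    obtain ⟨g', hg1, hg2⟩ := Avoid.exists_family (s.filter fun t => t ∈ Set.range i) pt (fun t _ => inferInstance)
      pt_injective.injOn Q (n - e) (fun t ht m hm g hg => by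
        obtain ⟨z, rfl⟩ := (Finset.mem_filter.1 ht).2
        obtain ⟨N, hN, hN'⟩ := hP1 z m (by omega) g (hg z rfl)
        refine ⟨N, hN, fun x hx z' hz' => ?_⟩
        obtain rfl := hinj hz'
        exact hN' x hx) 1 (by omega) (Fin.cons x Fin.elim0)
        (fun t ht => hN1 t x (hx t (Finset.mem_filter.1 ht).1))
    obtain ⟨j, hj⟩ : ∃ j, g' j = x := hg1 ⟨0, rfl⟩
    refine ⟨n - e, fun j => (g' j : Γ(Y, ⊤)), fun j => (g' j).2, fun w hw => ?_, fun t ht => ?_⟩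
    · by_cases hwi : (eqs fun j => (g' j : Γ(Y, ⊤))).subschemeι w ∈ Set.range i
      · obtain ⟨z, hz⟩ := hwi
        exact (hP2 z (n - e) (by omega) g' (hg2 _ (Finset.mem_filter.2 ⟨hT.mem_toFinset.2 hw, ⟨z, hz⟩⟩) z hz)).1 w hz.symm
      · exfalso
        have h1 := hN2 _ hwi x (hx _ (hT.mem_toFinset.2 hw))
        rw [mem_pt_iff, not_not, ← hj] at h1
        exact basicOpen_disjoint (fun j => (g' j : Γ(Y, ⊤))) j w h1
    · by_cases hti : t ∈ Set.range i
      · obtain ⟨z, hz⟩ := hti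
        obtain ⟨V', h1, h2⟩ := (hP2 z (n - e) (by omega) g'
          (hg2 _ (Finset.mem_filter.2 ⟨hT.mem_toFinset.2 ht, ⟨z, hz⟩⟩) z hz)).2
        exact ⟨V', hz ▸ h1, h2⟩
      · have h1 := hN2 _ hti x (hx _ (hT.mem_toFinset.2 ht))
        rw [mem_pt_iff, not_not] at h1
        refine ⟨⟨Y.basicOpen (x : Γ(Y, ⊤)), (isAffineOpen_top Y).basicOpen _⟩, h1, ?_⟩
        have hu : IsUnit (Y.presheaf.map (homOfLE (Y.basicOpen_le (x : Γ(Y, ⊤)))).op (x : Γ(Y, ⊤))) :=
          Y.toRingedSpace.isUnit_res_basicOpen _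
        have e1 : i.ker.ideal ⟨Y.basicOpen (x : Γ(Y, ⊤)), (isAffineOpen_top Y).basicOpen _⟩ = ⊤ := by
          refine Ideal.eq_top_of_isUnit_mem _ ?_ hu
          rw [i.ker_apply, ← kk_map i ⟨Y.basicOpen (x : Γ(Y, ⊤)), (isAffineOpen_top Y).basicOpen _⟩]
          exact Ideal.mem_map_of_mem _ x.2
        have e2 : (i₁.ker.comap F ⊔ eqs fun j => (g' j : Γ(Y, ⊤))).ideal
            ⟨Y.basicOpen (x : Γ(Y, ⊤)), (isAffineOpen_top Y).basicOpen _⟩ = ⊤ := by
          refine Ideal.eq_top_of_isUnit_mem _ ?_ hu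
          rw [Scheme.IdealSheafData.ideal_sup, Pi.sup_apply, eqs_ideal]
          exact Ideal.mem_sup_right (Ideal.subset_span ⟨j, congrArg (fun y : kk i =>
            Y.presheaf.map (homOfLE (Y.basicOpen_le (x : Γ(Y, ⊤)))).op (y : Γ(Y, ⊤))) hj⟩)
        rw [e1, e2]
  · have hTi : T ⊆ Set.range i := hcase.resolve_left (by omega)
    let g₀ : Fin 0 → kk i := Fin.elim0
    refine ⟨0, fun j => (g₀ j : Γ(Y, ⊤)), fun j => (g₀ j).2, fun w hw => ?_, fun t ht => ?_⟩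
    · obtain ⟨z, hz⟩ := hTi hw
      exact (hP2 z 0 (by have := he z; omega) g₀ (hP0 z _)).1 w hz.symm
    · obtain ⟨z, rfl⟩ := hTi ht
      exact (hP2 z 0 (by have := he z; omega) g₀ (hP0 z _)).2

end K953.LiftEqs
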