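import Groth.Agent.BlochOgus.K953.LiftEqs
import Mathlib.AlgebraicGeometry.Morphisms.ClosedImmersion

/-!
# Lifting smooth closed subschemes near finitely many points
-/

set_option autoImplicit false

universe u

open CategoryTheory CategoryTheory.Limits AlgebraicGeometry
open Groth.Agent K953.LiftGeom

namespace K953.LiftFinal

theorem comap_eq_of_locally {X Y : Scheme.{u}} (I J : Y.IdealSheafData) (j : X ⟶ Y)
    (h : ∀ x, ∃ V' : Y.affineOpens, j x ∈ V'.1 ∧ I.ideal V' = J.ideal V') : I.comap j = J.comap j := by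
  refine Divis.IdealComap.ext_of_forall_mem fun x => ?_
  obtain ⟨V', hx, hV'⟩ := h x
  obtain ⟨W, hW, hxW, hWV⟩ := exists_isAffineOpen_mem_and_subset (U := j ⁻¹ᵁ V'.1) (x := x) hx
  refine ⟨⟨W, hW⟩, hxW, ?_⟩
  rw [Divis.IdealComap.ideal_comap I j V' ⟨W, hW⟩ hWV, Divis.IdealComap.ideal_comap J j V' ⟨W, hW⟩ hWV, hV']

theorem ker_comap {X Y P : Scheme.{u}} (j : X ⟶ Y) (f : Y ⟶ P) [IsClosedImmersion j] [IsClosedImmersion f] :
    (j ≫ f).ker.comap f = j.ker := by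
  have hp : IsPullback j (𝟙 X) f (j ≫ f) := by
    refine ⟨⟨by simp⟩, ⟨PullbackCone.IsLimit.mk _ (fun s => s.snd) (fun s => ?_) (fun s => ?_)
      (fun s m _ hm => ?_)⟩⟩
    · have := s.condition
      rw [← Category.assoc, cancel_mono f] at this
      exact this.symm
    · simp
    · simpa using hm
  rw [← Scheme.IdealSheafData.ker_fst_of_isClosedImmersion (j ≫ f) f]
  have e2 := Scheme.Hom.ker_comp_of_isIso hp.isoPullback.hom (pullback.fst f (j ≫ f))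
  rw [hp.isoPullback_hom_fst] at e2
  exact e2.symm

theorem ker_of_isPullback {X' X Y' Y : Scheme.{u}} {i' : X' ⟶ Y'} {a : X' ⟶ X} {b : Y' ⟶ Y} {i : X ⟶ Y}
    [IsClosedImmersion i] (h : IsPullback i' a b i) : i'.ker = i.ker.comap b := by
  rw [← Scheme.IdealSheafData.ker_fst_of_isClosedImmersion i b]
  have e2 := Scheme.Hom.ker_comp_of_isIso h.isoPullback.hom (pullback.fst b i)
  rw [h.isoPullback_hom_fst] at e2
  exact e2

theorem comap_self {X Y : Scheme.{u}} (f : X ⟶ Y) : f.ker.comap f = ⊥ := by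
  refine le_bot_iff.1 (Scheme.IdealSheafData.le_map_iff_comap_le.1 ?_)
  rw [Scheme.IdealSheafData.map_bot]

theorem lfp_eqs {Y : Scheme.{u}} [IsAffine Y] {r : ℕ} (h : Fin r → Γ(Y, ⊤)) :
    LocallyOfFinitePresentation (eqs h).subschemeι := by
  have : IsAffine (eqs h).subscheme := isAffine_of_isAffineHom (eqs h).subschemeι
  rw [HasRingHomProperty.iff_of_isAffine (P := @LocallyOfFinitePresentation)]
  refine RingHom.FinitePresentation.of_surjective _ ((eqs h).subschemeι.app_surjective ⊤ (isAffineOpen_top Y)) ?_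
  have h1 := (eqs h).subschemeι.ker_apply ⟨⊤, isAffineOpen_top Y⟩
  rw [Scheme.IdealSheafData.ker_subschemeι, eqs_ideal] at h1
  change (RingHom.ker ((eqs h).subschemeι.app ⊤).hom).FG
  rw [← h1]
  exact Submodule.fg_span (Set.finite_range _)

theorem main (X₁ X₂ Z₁ Z₂ : Scheme.{u}) (i₁ : Z₁ ⟶ X₁) (i₂ : Z₂ ⟶ X₂)
    [IsClosedImmersion i₁] [IsClosedImmersion i₂]
    (f : X₂ ⟶ X₁) (g : Z₂ ⟶ Z₁) (n e : ℕ)
    [hf : SmoothOfRelativeDimension n f] [hg : SmoothOfRelativeDimension e g]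
    (hsq : i₂ ≫ f = g ≫ i₁)
    (T : Set X₂) (hT : T.Finite) (hcase : e < n ∨ T ⊆ Set.range i₂.base)
    (V : X₂.Opens) (hV : IsAffineOpen V) (hTV : T ⊆ (V : Set X₂)) :
    ∃ U : X₂.Opens, T ⊆ (U : Set X₂) ∧
      ∃ (W : Scheme.{u}) (k : W ⟶ (U : Scheme.{u}))
        (m : ((i₂ ⁻¹ᵁ U : Z₂.Opens) : Scheme.{u}) ⟶ W),
        IsClosedImmersion k ∧ m ≫ k = i₂ ∣_ U ∧ AlgebraicGeometry.Smooth (k ≫ U.ι ≫ f) ∧
          IsPullback m ((i₂ ⁻¹ᵁ U).ι ≫ g) (k ≫ U.ι ≫ f) i₁ := by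
  have hVa : IsAffine (V : Scheme.{u}) := hV
  let i' : ((i₂ ⁻¹ᵁ V : Z₂.Opens) : Scheme.{u}) ⟶ (V : Scheme.{u}) := i₂ ∣_ V
  let F : (V : Scheme.{u}) ⟶ X₁ := V.ι ≫ f
  let g' : ((i₂ ⁻¹ᵁ V : Z₂.Opens) : Scheme.{u}) ⟶ Z₁ := (i₂ ⁻¹ᵁ V).ι ≫ g
  have hi' : i' ≫ V.ι = (i₂ ⁻¹ᵁ V).ι ≫ i₂ := morphismRestrict_ι i₂ V
  have hsq' : i' ≫ F = g' ≫ i₁ := by
    change i' ≫ V.ι ≫ f = ((i₂ ⁻¹ᵁ V).ι ≫ g) ≫ i₁
    rw [← Category.assoc, hi', Category.assoc, hsq, Category.assoc]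
  have hF : SmoothOfRelativeDimension n F := IsZariskiLocalAtSource.comp hf V.ι
  have hg' : SmoothOfRelativeDimension e g' := IsZariskiLocalAtSource.comp hg (i₂ ⁻¹ᵁ V).ι
  let T' : Set V := {t | t.1 ∈ T}
  have hT' : T'.Finite := hT.preimage Subtype.val_injective.injOn
  have hcase' : e < n ∨ T' ⊆ Set.range i' := by
    refine hcase.imp id fun h t ht => ?_
    obtain ⟨z, hz⟩ := h ht
    have hz' : i₂ z = t.1 := hz
    refine ⟨⟨z, by change i₂ z ∈ V; rw [hz']; exact t.2⟩, ?_⟩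
    apply Subtype.ext
    refine Eq.trans ?_ hz'
    exact congr($(hi') ⟨z, _⟩)
  obtain ⟨r, h, hk, hsm, heq⟩ := K953.LiftEqs.exists_eqs i₁ i' F g' n e hsq' T' hT' hcase'
  let Y : Scheme.{u} := V
  let c : (eqs h).subscheme ⟶ Y := (eqs h).subschemeι
  have hclfp : LocallyOfFinitePresentation c := lfp_eqs h
  have hFs : Smooth F := hF.smooth n
  have hFlfp : LocallyOfFinitePresentation F := inferInstance
  have hcF : LocallyOfFinitePresentation (c ≫ F) := inferInstance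
  let O : (eqs h).subscheme.Opens := (c ≫ F).smoothLocus
  let E : Y.Opens := ⨆ (V' : {V' : Y.affineOpens // i'.ker.ideal V' = (i₁.ker.comap F ⊔ eqs h).ideal V'}), V'.1.1
  have hbad : IsClosed (c '' (O : Set (eqs h).subscheme)ᶜ) :=
    c.isClosedEmbedding.isClosedMap _ O.isOpen.isClosed_compl
  let U' : Y.Opens := E ⊓ ⟨(c '' (O : Set (eqs h).subscheme)ᶜ)ᶜ, hbad.isOpen_compl⟩
  let U : X₂.Opens := V.ι ''ᵁ U'
  have hUV : U ≤ V := by
    rintro _ ⟨y, -, rfl⟩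
    exact y.2
  have hTU : T ⊆ (U : Set X₂) := by
    intro t ht
    have htV : t ∈ V := hTV ht
    have ht' : (⟨t, htV⟩ : V) ∈ T' := ht
    refine ⟨⟨t, htV⟩, ⟨?_, ?_⟩, rfl⟩
    · obtain ⟨V', h1, h2⟩ := heq _ ht'
      exact TopologicalSpace.Opens.mem_iSup.2 ⟨⟨V', h2⟩, h1⟩
    · rintro ⟨w, hw, hw'⟩
      apply hw
      refine hsm w ?_
      have : c w ∈ T' := by rw [hw']; exact ht'
      exact this
  refine ⟨U, hTU, ?_⟩
  let j : (U : Scheme.{u}) ⟶ Y := X₂.homOfLE hUV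
  have hj : j ≫ V.ι = U.ι := X₂.homOfLE_ι hUV
  have hjU' : ∀ x, j x ∈ U' := by
    intro x
    obtain ⟨y, hy, hyx⟩ := x.2
    have h1 : V.ι (j x) = V.ι y := by
      rw [← Scheme.Hom.comp_apply, hj]
      exact hyx.symm
    have h2 : j x = y := V.ι.isOpenEmbedding.injective h1
    rw [h2]
    exact hy
  let W : Scheme.{u} := pullback j c
  let k : W ⟶ (U : Scheme.{u}) := pullback.fst j c
  have hkj : k ≫ j = pullback.snd j c ≫ c := pullback.condition
  have hle : i₂ ⁻¹ᵁ U ≤ i₂ ⁻¹ᵁ V := i₂.preimage_mono hUV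
  have hck : c.ker ≤ i'.ker := by
    have h1 : c.ker = eqs h := Scheme.IdealSheafData.ker_subschemeι _
    rw [h1, eqs]
    refine Scheme.IdealSheafData.le_of_isAffine ?_
    rw [Scheme.IdealSheafData.ofIdealTop_ideal, Ideal.map_le_iff_le_comap, Ideal.span_le]
    rintro _ ⟨a, rfl⟩
    change (V : Scheme.{u}).presheaf.map (𝟙 _) (h a) ∈ kk i'
    rw [CategoryTheory.Functor.map_id]
    exact hk a
  let l : ((i₂ ⁻¹ᵁ V : Z₂.Opens) : Scheme.{u}) ⟶ (eqs h).subscheme := IsClosedImmersion.lift c i' hck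
  have hl : l ≫ c = i' := IsClosedImmersion.lift_fac c i' hck
  have hcomm : (i₂ ∣_ U) ≫ j = (Z₂.homOfLE hle ≫ l) ≫ c := by
    rw [Category.assoc, hl, ← cancel_mono V.ι, Category.assoc, hj, morphismRestrict_ι, Category.assoc, hi',
      ← Category.assoc, Z₂.homOfLE_ι]
  let m : ((i₂ ⁻¹ᵁ U : Z₂.Opens) : Scheme.{u}) ⟶ W := pullback.lift (i₂ ∣_ U) (Z₂.homOfLE hle ≫ l) hcomm
  have hmk : m ≫ k = i₂ ∣_ U := pullback.lift_fst _ _ _
  have hkc : IsClosedImmersion k := inferInstance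
  have hmc : IsClosedImmersion m := by
    have : IsClosedImmersion (m ≫ k) := by rw [hmk]; infer_instance
    exact IsClosedImmersion.of_comp m k
  have hkU : k ≫ U.ι ≫ f = pullback.snd j c ≫ (c ≫ F) := by
    rw [← hj]
    change k ≫ (j ≫ V.ι) ≫ f = pullback.snd j c ≫ (c ≫ V.ι ≫ f)
    rw [Category.assoc, reassoc_of% hkj]
  refine ⟨W, k, m, hkc, hmk, ?_, ?_⟩
  · rw [hkU, ← Scheme.Hom.smoothLocus_eq_top_iff, ← Scheme.Hom.preimage_smoothLocus_eq, eq_top_iff]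
    intro x _
    by_contra hcon
    have h1 : k ≫ j = pullback.snd j c ≫ c := hkj
    have h2 := (hjU' (k x)).2
    apply h2
    refine ⟨pullback.snd j c x, hcon, ?_⟩
    rw [← Scheme.Hom.comp_apply, ← hkj, Scheme.Hom.comp_apply]
  · refine isPullback_of_isClosedImmersion m i₁ ((i₂ ⁻¹ᵁ U).ι ≫ g) (k ≫ U.ι ≫ f) ?_ ?_
    · rw [reassoc_of% hmk, reassoc_of% (morphismRestrict_ι i₂ U), hsq, Category.assoc]
    · have e1 : m.ker = (i₂ ∣_ U).ker.comap k := by rw [← ker_comap m k, hmk]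
      have e2 : (i₂ ∣_ U).ker = i'.ker.comap j := by
        rw [ker_of_isPullback (isPullback_morphismRestrict i₂ U), ← hj, Scheme.IdealSheafData.comap_comp,
          ker_of_isPullback (isPullback_morphismRestrict i₂ V)]
      have e3 : i'.ker.comap j = (i₁.ker.comap F ⊔ eqs h).comap j := by
        refine comap_eq_of_locally _ _ j fun x => ?_
        obtain ⟨⟨V', hV'⟩, hx⟩ := TopologicalSpace.Opens.mem_iSup.1 (hjU' x).1
        exact ⟨V', hx, hV'⟩
      have e4 : (eqs h).comap (k ≫ j) = ⊥ := by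
        have h1 : c.ker = eqs h := Scheme.IdealSheafData.ker_subschemeι _
        have h2 : (eqs h).comap c = ⊥ :=
          (congrArg (fun I : Y.IdealSheafData => I.comap c) h1).symm.trans (comap_self c)
        rw [hkj, Scheme.IdealSheafData.comap_comp, h2, Scheme.IdealSheafData.comap_bot]
      rw [e1, e2, e3, ← Scheme.IdealSheafData.comap_comp, Scheme.IdealSheafData.comap_sup, e4, sup_bot_eq,
        ← Scheme.IdealSheafData.comap_comp, hkU, hkj, Category.assoc]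

end K953.LiftFinal
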