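import Groth.Agent.Lefpen.H727.JacCrit
import Groth.Agent.Sga3B.FibreNak

/-!
# Generating the ideal of a smooth closed subscheme from its differentials

`A → A'` surjective, `B` over `A` with quotient `B'` smooth over `A'`, `B → C` surjective through `B'` with `C` smooth over
`A'` at a prime `q`.  If the differentials of elements `g i` of the kernel of `B → C` span, over the residue field of `q`,
the differentials of all the elements of the kernel, then near `q` the kernel is generated by the `g i` and the kernel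
of `B → B'`.
-/

set_option autoImplicit false

universe u

open TensorProduct KaehlerDifferential
open Groth.Agent

namespace K953.LiftGen

section Nak

variable {P : Type*} [CommRing P] {K : Type*} [Field K] [Algebra P K]

/-- generators of a finitely generated ideal contained in the kernel of a map to a field, from generators of the
cotangent space tensored with the field -/
theorem exists_mul_mem (J : Ideal P) (hJ : J.FG) (hJK : ∀ x ∈ J, algebraMap P K x = 0) {ι : Type*} (g : ι → J)
    (h : ∀ x : J, (1 : K) ⊗ₜ[P] J.toCotangent x ∈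
      Submodule.span K (Set.range fun i => (1 : K) ⊗ₜ[P] J.toCotangent (g i))) :
    ∃ s : P, algebraMap P K s ≠ 0 ∧ ∀ x ∈ J, s * x ∈ Ideal.span (Set.range fun i => (g i : P)) := by
  let N : Submodule P J := Submodule.span P (Set.range g)
  have hf1 : Module.Finite P J := Module.Finite.iff_fg.2 hJ
  have hf : Module.Finite P (J ⧸ N) := inferInstance
  -- the map from the cotangent space
  let ψ : J →ₗ[P] K ⊗[P] (J ⧸ N) := (TensorProduct.mk P K (J ⧸ N) 1) ∘ₗ N.mkQ
  have hψ : (J • (⊤ : Submodule P J)) ≤ LinearMap.ker ψ := by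
    rw [Submodule.smul_le]
    intro a ha x _
    rw [LinearMap.mem_ker, map_smul, LinearMap.comp_apply, TensorProduct.mk_apply, TensorProduct.smul_tmul',
      Algebra.smul_def, hJK a ha, zero_mul, TensorProduct.zero_tmul]
  let ψ' : J.Cotangent →ₗ[P] K ⊗[P] (J ⧸ N) := (J • (⊤ : Submodule P J)).liftQ ψ hψ
  let Ψ : K ⊗[P] J.Cotangent →ₗ[K] K ⊗[P] (J ⧸ N) := ψ'.liftBaseChange K
  have hΨ : ∀ x : J, Ψ ((1 : K) ⊗ₜ[P] J.toCotangent x) = (1 : K) ⊗ₜ[P] N.mkQ x := by
    intro x
    change (1 : K) • ψ' (J.toCotangent x) = _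
    rw [one_smul]
    rfl
  have hz : ∀ x : J, (1 : K) ⊗ₜ[P] N.mkQ x = 0 := by
    intro x
    rw [← hΨ x]
    have h1 := Submodule.mem_map_of_mem (f := Ψ) (h x)
    rw [Submodule.map_span, ← Set.range_comp] at h1
    have h2 : (Ψ ∘ fun i => (1 : K) ⊗ₜ[P] J.toCotangent (g i)) = fun _ => 0 := by
      funext i
      rw [Function.comp_apply, hΨ]
      have : N.mkQ (g i) = 0 := by
        rw [Submodule.mkQ_apply, Submodule.Quotient.mk_eq_zero]
        exact Submodule.subset_span ⟨i, rfl⟩
      rw [this, TensorProduct.tmul_zero]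
    rw [h2] at h1
    have h3 : Submodule.span K (Set.range fun _ : ι => (0 : K ⊗[P] (J ⧸ N))) ≤ ⊥ := by
      rw [Submodule.span_le]
      rintro _ ⟨i, rfl⟩
      rfl
    exact h3 h1
  have hs : Subsingleton (K ⊗[P] (J ⧸ N)) := by
    refine subsingleton_of_forall_eq 0 fun y => ?_
    induction y using TensorProduct.induction_on with
    | zero => rfl
    | add x y hx hy => rw [hx, hy, add_zero]
    | tmul a m =>
      obtain ⟨x, rfl⟩ := N.mkQ_surjective m
      have : a ⊗ₜ[P] N.mkQ x = a • ((1 : K) ⊗ₜ[P] N.mkQ x) := by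
        rw [TensorProduct.smul_tmul', smul_eq_mul, mul_one]
      rw [this, hz, smul_zero]
  obtain ⟨s, hs1, hs2⟩ := Sga3B.FibreNak.exists_smul_eq_zero (K := K) hs
  refine ⟨s, hs1, fun x hx => ?_⟩
  have h1 := hs2 (N.mkQ ⟨x, hx⟩)
  rw [← map_smul, Submodule.mkQ_apply, Submodule.Quotient.mk_eq_zero] at h1
  have h2 := Submodule.mem_map_of_mem (f := J.subtype) h1
  rw [Submodule.map_span, ← Set.range_comp] at h2
  exact h2

end Nak

section Gen

variable {A A' B B' C : Type u} [CommRing A] [CommRing A'] [CommRing B] [CommRing B'] [CommRing C]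
  [Algebra A A'] [Algebra A B] [Algebra A B'] [Algebra A' B'] [Algebra B B'] [Algebra B' C]
  [IsScalarTower A A' B'] [IsScalarTower A B B']

variable (A A' B B' C) in
/-- comparison of differentials along `B → B'` -/
theorem exists_rho (K : Type u) [Field K] [Algebra B K] [Algebra B' K] [IsScalarTower B B' K] :
    ∃ ρ : K ⊗[B] Ω[B⁄A] →ₗ[K] K ⊗[B'] (C ⊗[B'] Ω[B'⁄A']),
      ∀ b, ρ (1 ⊗ₜ D A B b) = 1 ⊗ₜ (1 ⊗ₜ D A' B' (algebraMap B B' b)) := by
  have : SMulCommClass A' B B' := ⟨fun a b c => by
    rw [Algebra.smul_def b, Algebra.smul_def b, Algebra.mul_smul_comm]⟩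
  let l1 : Ω[B'⁄A'] →ₗ[B'] K ⊗[B'] (C ⊗[B'] Ω[B'⁄A']) :=
    (TensorProduct.mk B' K (C ⊗[B'] Ω[B'⁄A']) 1) ∘ₗ (TensorProduct.mk B' C Ω[B'⁄A'] 1)
  let l2 : Ω[B⁄A] →ₗ[B] K ⊗[B'] (C ⊗[B'] Ω[B'⁄A']) :=
    (l1.restrictScalars B) ∘ₗ (KaehlerDifferential.map A A' B B')
  refine ⟨l2.liftBaseChange K, fun b => ?_⟩
  rw [LinearMap.liftBaseChange_tmul, one_smul]
  change l1 (KaehlerDifferential.map A A' B B' (D A B b)) = _
  rw [KaehlerDifferential.map_D]
  rfl

variable [Algebra A' C] [Algebra B C] [IsScalarTower A' B' C] [IsScalarTower B B' C]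

theorem exists_mul_mem_span (hB' : Function.Surjective (algebraMap B B'))
    (hC : Function.Surjective (algebraMap B' C)) (L : Ideal B) (hL : RingHom.ker (algebraMap B B') ≤ L)
    [Algebra.FormallySmooth A' B'] (q : Ideal C) [q.IsPrime] [hq : Algebra.FormallySmooth A' (Localization.AtPrime q)]
    (hJ : (RingHom.ker (algebraMap B' C)).FG) {ι : Type*} [Finite ι] (g : ι → B)
    (hg : ∀ i, algebraMap B C (g i) = 0)
    (hspan : ∀ b, algebraMap B C b = 0 → (1 : q.ResidueField) ⊗ₜ[B] D A B b ∈
      Submodule.span q.ResidueField (Set.range fun i => (1 : q.ResidueField) ⊗ₜ[B] D A B (g i))) :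
    ∃ s : B, algebraMap B C s ∉ q ∧ ∀ b, algebraMap B C b = 0 → s * b ∈ L ⊔ Ideal.span (Set.range g) := by
  classical
  have hfi := Fintype.ofFinite ι
  let J : Ideal B' := RingHom.ker (algebraMap B' C)
  have hft : Module.Finite B' J := Module.Finite.iff_fg.2 hJ
  have hft' : Module.Finite B' (RingHom.ker (algebraMap B' C)).Cotangent :=
    Module.Finite.of_surjective _ (Ideal.toCotangent_surjective (RingHom.ker (algebraMap B' C)))
  let gJ : ι → J := fun i => ⟨algebraMap B B' (g i), by
    rw [RingHom.mem_ker, ← IsScalarTower.algebraMap_apply]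
    exact hg i⟩
  have inj := ((S2463.result (A := A') (B := B') (C := C) hC q).out 0 1).1 hq
  obtain ⟨ρ, hρ⟩ := exists_rho A A' B B' C q.ResidueField
  have key : ∀ x : J, (1 : q.ResidueField) ⊗ₜ[B'] J.toCotangent x ∈
      Submodule.span q.ResidueField (Set.range fun i => (1 : q.ResidueField) ⊗ₜ[B'] J.toCotangent (gJ i)) := by
    intro x
    obtain ⟨b, hb⟩ := hB' (x : B')
    have hb0 : algebraMap B C b = 0 := by
      rw [IsScalarTower.algebraMap_apply B B' C, hb]
      exact x.2
    obtain ⟨c, hc⟩ := (Submodule.mem_span_range_iff_exists_fun _).1 (hspan b hb0)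
    refine (Submodule.mem_span_range_iff_exists_fun _).2 ⟨c, inj ?_⟩
    have h1 := congrArg ρ hc
    rw [map_sum, hρ] at h1
    rw [map_sum]
    refine Eq.trans (Finset.sum_congr rfl fun i _ => ?_) (h1.trans ?_)
    · rw [ρ.map_smul, hρ]
      rw [TensorProduct.smul_tmul', TensorProduct.smul_tmul', LinearMap.lTensor_tmul]
      congr 1
    · rw [LinearMap.lTensor_tmul, hb]
      congr 1
  obtain ⟨s', hs1, hs2⟩ := exists_mul_mem (K := q.ResidueField) J hJ (fun x hx => by
    rw [IsScalarTower.algebraMap_apply B' C, show algebraMap B' C x = 0 from hx, map_zero]) gJ key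
  obtain ⟨s, rfl⟩ := hB' s'
  refine ⟨s, ?_, fun b hb => ?_⟩
  · intro h
    apply hs1
    rw [IsScalarTower.algebraMap_apply B' C, ← IsScalarTower.algebraMap_apply B B' C,
      Ideal.algebraMap_residueField_eq_zero]
    exact h
  · have h1 := hs2 (algebraMap B B' b) (by rw [RingHom.mem_ker, ← IsScalarTower.algebraMap_apply]; exact hb)
    have h2 : Ideal.span (Set.range fun i => (gJ i : B')) = (Ideal.span (Set.range g)).map (algebraMap B B') := by
      rw [Ideal.map_span, ← Set.range_comp]
      rfl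
    rw [h2, ← map_mul, Ideal.mem_map_iff_of_surjective _ hB'] at h1
    obtain ⟨y, hy, hy'⟩ := h1
    have h3 : s * b - y ∈ RingHom.ker (algebraMap B B') := by
      rw [RingHom.mem_ker, map_sub, hy', sub_self]
    have : s * b = (s * b - y) + y := by ring
    rw [this]
    exact Submodule.add_mem_sup (hL h3) hy

end Gen

section Tens

variable {A A' B C : Type u} [CommRing A] [CommRing A'] [CommRing B] [CommRing C]
  [Algebra A A'] [Algebra A B] [Algebra A C] [Algebra A' C] [Algebra B C] [IsScalarTower A A' C] [IsScalarTower A B C]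

theorem ker_includeRight (hA : Function.Surjective (algebraMap A A')) :
    RingHom.ker (Algebra.TensorProduct.includeRight : B →ₐ[A] A' ⊗[A] B) =
      (RingHom.ker (algebraMap A A')).map (algebraMap A B) := by
  have h1 := Algebra.TensorProduct.rTensor_ker (R := A) (A := A) (B := A') (C := B) (Algebra.ofId A A') hA
  let e : B ≃ₐ[A] A ⊗[A] B := (Algebra.TensorProduct.lid A B).symm
  have h2 : (Algebra.TensorProduct.includeRight : B →ₐ[A] A' ⊗[A] B) =
      (Algebra.TensorProduct.map (Algebra.ofId A A') (AlgHom.id A B)).comp e.toAlgHom := by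
    ext b
    change (1 : A') ⊗ₜ[A] b = Algebra.TensorProduct.map (Algebra.ofId A A') (AlgHom.id A B)
      ((Algebra.TensorProduct.lid A B).symm b)
    rw [Algebra.TensorProduct.lid_symm_apply, Algebra.TensorProduct.map_tmul, map_one]
    rfl
  have h3 : RingHom.ker (Algebra.TensorProduct.includeRight : B →ₐ[A] A' ⊗[A] B) =
      (RingHom.ker (Algebra.TensorProduct.map (Algebra.ofId A A') (AlgHom.id A B))).comap e.toRingEquiv := by
    ext x
    rw [RingHom.mem_ker, h2, Ideal.mem_comap, RingHom.mem_ker]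
    rfl
  rw [h3, h1, ← Ideal.map_symm]
  refine (Ideal.map_map (Algebra.TensorProduct.includeLeft : A →ₐ[A] A ⊗[A] B).toRingHom
    e.toRingEquiv.symm.toRingHom).trans ?_
  congr 1
  ext a
  change Algebra.TensorProduct.lid A B (a ⊗ₜ[A] (1 : B)) = _
  rw [Algebra.TensorProduct.lid_tmul, Algebra.smul_def, mul_one]

theorem exists_mul_mem_map (hA : Function.Surjective (algebraMap A A')) (hC : Function.Surjective (algebraMap B C))
    [Algebra.Smooth A B] [Algebra.FinitePresentation A' C] (q : Ideal C) [q.IsPrime]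
    [Algebra.FormallySmooth A' (Localization.AtPrime q)] {ι : Type*} [Finite ι] (g : ι → B)
    (hg : ∀ i, algebraMap B C (g i) = 0)
    (hspan : ∀ b, algebraMap B C b = 0 → (1 : q.ResidueField) ⊗ₜ[B] D A B b ∈
      Submodule.span q.ResidueField (Set.range fun i => (1 : q.ResidueField) ⊗ₜ[B] D A B (g i))) :
    ∃ s : B, algebraMap B C s ∉ q ∧ ∀ b, algebraMap B C b = 0 →
      s * b ∈ (RingHom.ker (algebraMap A A')).map (algebraMap A B) ⊔ Ideal.span (Set.range g) := by
  let B' := A' ⊗[A] B
  let a1 : Algebra B B' := Algebra.TensorProduct.rightAlgebra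
  let φ : B' →ₐ[A'] C := Algebra.TensorProduct.lift (Algebra.ofId A' C) (IsScalarTower.toAlgHom A B C)
    (fun _ _ => .all _ _)
  let a2 : Algebra B' C := φ.toRingHom.toAlgebra
  have t2 : IsScalarTower A B B' := .of_algebraMap_eq fun a =>
    ((Algebra.TensorProduct.includeRight : B →ₐ[A] A' ⊗[A] B).commutes a).symm
  have t3 : IsScalarTower A' B' C := .of_algebraMap_eq' φ.comp_algebraMap.symm
  have t4 : IsScalarTower B B' C := .of_algebraMap_eq fun b => by
    change algebraMap B C b = φ ((1 : A') ⊗ₜ b)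
    rw [Algebra.TensorProduct.lift_tmul, map_one, one_mul]
    rfl
  have hB' : Function.Surjective (algebraMap B B') := by
    intro x
    induction x using TensorProduct.induction_on with
    | zero => exact ⟨0, map_zero _⟩
    | add x y hx hy =>
      obtain ⟨a, rfl⟩ := hx
      obtain ⟨b, rfl⟩ := hy
      exact ⟨a + b, map_add _ _ _⟩
    | tmul a b =>
      obtain ⟨a, rfl⟩ := hA a
      refine ⟨a • b, ?_⟩
      change (1 : A') ⊗ₜ[A] (a • b) = _
      rw [← TensorProduct.smul_tmul, Algebra.smul_def, mul_one]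
  have hC' : Function.Surjective (algebraMap B' C) := by
    intro c
    obtain ⟨b, rfl⟩ := hC c
    exact ⟨algebraMap B B' b, (IsScalarTower.algebraMap_apply B B' C b).symm⟩
  have hJ : (RingHom.ker (algebraMap B' C)).FG :=
    Algebra.FinitePresentation.ker_fG_of_surjective φ hC'
  exact exists_mul_mem_span (A := A) (A' := A') (B := B) (B' := B') (C := C) hB' hC' _
    (ker_includeRight hA).le q hJ g hg hspan

end Tens

end K953.LiftGen
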