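import Groth.Agent.BlochOgus.K953.LiftStep
import Groth.Agent.Divis.IdealComap
import Mathlib.AlgebraicGeometry.Morphisms.Smooth
import Mathlib.AlgebraicGeometry.IdealSheaf.Functorial

/-!
# Local equations lifting a smooth closed subscheme, at a point
-/

set_option autoImplicit false

universe u

open CategoryTheory CategoryTheory.Limits AlgebraicGeometry TensorProduct KaehlerDifferential
open Groth.Agent

namespace K953.LiftGeom

theorem mem_prime_iff {X : Scheme.{u}} {V : X.Opens} (hV : IsAffineOpen V) (x : X) (hx : x ∈ V) (t : Γ(X, V)) :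
    t ∈ (hV.primeIdealOf ⟨x, hx⟩).asIdeal ↔ x ∉ X.basicOpen t := by
  have h2 := hV.fromSpec_preimage_basicOpen t
  have h3 : hV.primeIdealOf ⟨x, hx⟩ ∈ hV.fromSpec ⁻¹ᵁ X.basicOpen t ↔ x ∈ X.basicOpen t := by
    change hV.fromSpec (hV.primeIdealOf ⟨x, hx⟩) ∈ X.basicOpen t ↔ x ∈ X.basicOpen t
    rw [hV.fromSpec_primeIdealOf]
  rw [← h3, h2]
  change _ ↔ ¬ (t ∉ (hV.primeIdealOf ⟨x, hx⟩).asIdeal)
  rw [not_not]

variable {X₁ Z₁ Y Z : Scheme.{u}} [IsAffine Y]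

/-- the global sections of the ideal of a closed subscheme -/
noncomputable def kk (i : Z ⟶ Y) : Ideal Γ(Y, ⊤) := i.ker.ideal ⟨⊤, isAffineOpen_top Y⟩

/-- the prime ideal of a point -/
noncomputable def pt (t : Y) : Ideal Γ(Y, ⊤) := ((isAffineOpen_top Y).primeIdealOf ⟨t, trivial⟩).asIdeal

instance (t : Y) : (pt t).IsPrime := inferInstanceAs ((isAffineOpen_top Y).primeIdealOf ⟨t, trivial⟩).asIdeal.IsPrime

theorem mem_pt_iff (t : Y) (a : Γ(Y, ⊤)) : a ∈ pt t ↔ t ∉ Y.basicOpen a :=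
  mem_prime_iff (isAffineOpen_top Y) t trivial a

/-- the ideal sheaf generated by global functions -/
noncomputable def eqs {r : ℕ} (h : Fin r → Γ(Y, ⊤)) : Y.IdealSheafData :=
  .ofIdealTop (Ideal.span (Set.range h))

omit [IsAffine Y] in
theorem eqs_ideal {r : ℕ} (h : Fin r → Γ(Y, ⊤)) (V : Y.affineOpens) : (eqs h).ideal V =
    Ideal.span (Set.range fun j => Y.presheaf.map (homOfLE (le_top : V.1 ≤ ⊤)).op (h j)) := by
  rw [eqs, Scheme.IdealSheafData.ofIdealTop_ideal, Ideal.map_span, ← Set.range_comp]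
  rfl

theorem kk_map (i : Z ⟶ Y) [IsClosedImmersion i] (V : Y.affineOpens) :
    (kk i).map (Y.presheaf.map (homOfLE (le_top : V.1 ≤ ⊤)).op).hom = RingHom.ker (i.app V.1).hom := by
  rw [← i.ker_apply V]
  exact i.ker.map_ideal (U := V) (V := ⟨⊤, isAffineOpen_top Y⟩)
    (show V ≤ (⟨⊤, isAffineOpen_top Y⟩ : Y.affineOpens) from (le_top : V.1 ≤ ⊤))

theorem comap_prime_res {V : Y.Opens} (hV : IsAffineOpen V) (t : Y) (ht : t ∈ V) :
    ((hV.primeIdealOf ⟨t, ht⟩).asIdeal).comap (Y.presheaf.map (homOfLE (le_top : V ≤ ⊤)).op).hom = pt t := by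
  ext a
  rw [Ideal.mem_comap, mem_pt_iff]
  refine (mem_prime_iff hV t ht _).trans ?_
  rw [not_iff_not]
  change t ∈ Y.basicOpen (Y.presheaf.map (homOfLE (le_top : V ≤ ⊤)).op a) ↔ _
  rw [Scheme.basicOpen_res]
  exact ⟨fun h => h.2, fun h => ⟨ht, h⟩⟩

theorem comap_prime_app {X Y : Scheme.{u}} (i : X ⟶ Y) {V : Y.Opens} (hV : IsAffineOpen V)
    (hiV : IsAffineOpen (i ⁻¹ᵁ V)) (z : X) (hz : i z ∈ V) :
    ((hiV.primeIdealOf ⟨z, hz⟩).asIdeal).comap (i.app V).hom = (hV.primeIdealOf ⟨i z, hz⟩).asIdeal := by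
  have h := IsAffineOpen.comap_primeIdealOf_appLE (f := i) V hV (i ⁻¹ᵁ V) hiV le_rfl hz
  have h' := congr($(h).asIdeal)
  rw [← h', Scheme.Hom.app_eq_appLE]
  rfl

section Main

variable (i₁ : Z₁ ⟶ X₁) (i : Z ⟶ Y) [IsClosedImmersion i₁] [IsClosedImmersion i]
    (F : Y ⟶ X₁) (g : Z ⟶ Z₁) (n e : ℕ) [hF : SmoothOfRelativeDimension n F] [hgs : SmoothOfRelativeDimension e g]
    (hsq : i ≫ F = g ≫ i₁)

include hsq hF hgs in
theorem exists_pred (z : Z) : e ≤ n ∧ ∃ P : ∀ m, (Fin m → kk i) → Prop, (∀ g, P 0 g) ∧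
    (∀ m, m + e < n → ∀ g, P m g → ∃ N : Submodule Γ(Y, ⊤) (kk i), Avoid.IsPr (pt (i z)) N ∧
      ∀ x, x ∉ N → P (m + 1) (Fin.cons x g)) ∧
    (∀ m, m + e = n → ∀ g, P m g →
      (∀ w, (eqs fun j => (g j : Γ(Y, ⊤))).subschemeι w = i z →
        (((eqs fun j => (g j : Γ(Y, ⊤))).subschemeι ≫ F).stalkMap w).hom.FormallySmooth) ∧
      ∃ V' : Y.affineOpens, i z ∈ V'.1 ∧
        i.ker.ideal V' = (i₁.ker.comap F ⊔ eqs fun j => (g j : Γ(Y, ⊤))).ideal V') := by
  obtain ⟨_, ⟨U₁, hU₁, rfl⟩, hzU, -⟩ :=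
    X₁.isBasis_affineOpens.exists_subset_of_mem_open (Set.mem_univ (F (i z))) isOpen_univ
  obtain ⟨_, ⟨V, hV, rfl⟩, hzV, hVU⟩ :=
    Y.isBasis_affineOpens.exists_subset_of_mem_open hzU (U₁.2.preimage F.continuous)
  have hVU' : V ≤ F ⁻¹ᵁ U₁ := hVU
  have hU' : IsAffineOpen (i₁ ⁻¹ᵁ U₁) := IsAffineOpen.preimage hU₁ i₁
  have hV' : IsAffineOpen (i ⁻¹ᵁ V) := IsAffineOpen.preimage hV i
  have hle : i ⁻¹ᵁ V ≤ g ⁻¹ᵁ (i₁ ⁻¹ᵁ U₁) := by
    intro y hy
    have h1 : F (i y) ∈ U₁ := hVU' hy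
    have h2 : F (i y) = i₁ (g y) := by
      rw [← Scheme.Hom.comp_apply, hsq, Scheme.Hom.comp_apply]
    rw [h2] at h1
    exact h1
  let A := Γ(X₁, U₁)
  let B := Γ(Y, V)
  let A' := Γ(Z₁, i₁ ⁻¹ᵁ U₁)
  let C := Γ(Z, i ⁻¹ᵁ V)
  let a1 : Algebra A A' := (i₁.app U₁).hom.toAlgebra
  let a2 : Algebra A B := (F.appLE U₁ V hVU').hom.toAlgebra
  let a3 : Algebra B C := (i.app V).hom.toAlgebra
  let a4 : Algebra A' C := (g.appLE (i₁ ⁻¹ᵁ U₁) (i ⁻¹ᵁ V) hle).hom.toAlgebra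
  let a5 : Algebra A C := ((i.app V).hom.comp (F.appLE U₁ V hVU').hom).toAlgebra
  have t1 : IsScalarTower A B C := .of_algebraMap_eq' rfl
  have t2 : IsScalarTower A A' C := by
    refine .of_algebraMap_eq' ?_
    have h1 : F.appLE U₁ V hVU' ≫ i.app V = i₁.app U₁ ≫ g.appLE (i₁ ⁻¹ᵁ U₁) (i ⁻¹ᵁ V) hle := by
      rw [Scheme.Hom.app_eq_appLE, Scheme.Hom.app_eq_appLE, Scheme.Hom.appLE_comp_appLE,
        Scheme.Hom.appLE_comp_appLE]
      simp only [hsq]
    exact congr(($h1).hom)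
  have hA : Function.Surjective (algebraMap A A') := i₁.app_surjective U₁ hU₁
  have hC : Function.Surjective (algebraMap B C) := i.app_surjective V hV
  have hn : RingHom.Locally (RingHom.IsStandardSmoothOfRelativeDimension n) (algebraMap A B) :=
    HasRingHomProperty.appLE (@SmoothOfRelativeDimension n) F hF ⟨U₁, hU₁⟩ ⟨V, hV⟩ hVU'
  have he : RingHom.Locally (RingHom.IsStandardSmoothOfRelativeDimension e) (algebraMap A' C) :=
    HasRingHomProperty.appLE (@SmoothOfRelativeDimension e) g hgs ⟨i₁ ⁻¹ᵁ U₁, hU'⟩ ⟨i ⁻¹ᵁ V, hV'⟩ hle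
  let ρ : Γ(Y, ⊤) →+* B := (Y.presheaf.map (homOfLE (le_top : V ≤ ⊤)).op).hom
  have hk : (kk i).map ρ = RingHom.ker (algebraMap B C) := kk_map i ⟨V, hV⟩
  let q : Ideal C := (hV'.primeIdealOf ⟨z, hzV⟩).asIdeal
  have hq : q.IsPrime := (hV'.primeIdealOf ⟨z, hzV⟩).isPrime
  have hqB : q.comap (algebraMap B C) = (hV.primeIdealOf ⟨i z, hzV⟩).asIdeal := comap_prime_app i hV hV' z hzV
  have hker : RingHom.ker (algebraMap B q.ResidueField) = (hV.primeIdealOf ⟨i z, hzV⟩).asIdeal := by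
    rw [← hqB]
    ext x
    rw [RingHom.mem_ker, IsScalarTower.algebraMap_apply B C q.ResidueField, Ideal.algebraMap_residueField_eq_zero]
    rfl
  have hker' : RingHom.ker ((algebraMap B q.ResidueField).comp ρ) = pt (i z) := by
    rw [← RingHom.comap_ker, hker]
    exact comap_prime_res hV (i z) hzV
  have hfr := LiftStep.finrank_add ρ (kk i) hk q hA hC n e hn he
  refine ⟨by omega, fun m g => LinearIndependent q.ResidueField (fun j => LiftStep.phi A ρ (kk i) q (g j)),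
    fun g => linearIndependent_empty_type, fun m hm g hg => ?_, fun m hm g hg => ⟨fun w hw => ?_, ?_⟩⟩
  · rw [← hker']
    exact LiftStep.exists_step ρ (kk i) hk q hA hC n e hn he m hm g hg
  · -- smoothness
    let c := (eqs fun j => (g j : Γ(Y, ⊤))).subschemeι
    have hwV : c w ∈ V := by rw [show c w = i z from hw]; exact hzV
    have hcV : IsAffineOpen (c ⁻¹ᵁ V) := IsAffineOpen.preimage hV c
    have hle' : c ⁻¹ᵁ V ≤ (c ≫ F) ⁻¹ᵁ U₁ := fun y hy => hVU' hy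
    let S := Γ((eqs fun j => (g j : Γ(Y, ⊤))).subscheme, c ⁻¹ᵁ V)
    let b1 : Algebra B S := (c.app V).hom.toAlgebra
    let b2 : Algebra A S := ((c ≫ F).appLE U₁ (c ⁻¹ᵁ V) hle').hom.toAlgebra
    have b3 : IsScalarTower A B S := by
      refine .of_algebraMap_eq' ?_
      have h1 : (c ≫ F).appLE U₁ (c ⁻¹ᵁ V) hle' = F.appLE U₁ V hVU' ≫ c.app V := by
        rw [Scheme.Hom.app_eq_appLE, Scheme.Hom.appLE_comp_appLE]
      exact congr(($h1).hom)
    have hS : Function.Surjective (algebraMap B S) := c.app_surjective V hV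
    have hg' : RingHom.ker (algebraMap B S) = Ideal.span (Set.range fun j => ρ (g j)) := by
      have h1 := c.ker_apply ⟨V, hV⟩
      have h2 : c.ker = eqs fun j => (g j : Γ(Y, ⊤)) := Scheme.IdealSheafData.ker_subschemeι _
      rw [h2, eqs_ideal] at h1
      exact h1.symm
    let qw : Ideal S := (hcV.primeIdealOf ⟨w, hwV⟩).asIdeal
    have hqw : qw.IsPrime := (hcV.primeIdealOf ⟨w, hwV⟩).isPrime
    have hAB : Algebra.Smooth A B := LiftStep.smoothAB n hn
    have hK : RingHom.ker (algebraMap B q.ResidueField) = qw.comap (algebraMap B S) := by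
      rw [hker]
      refine Eq.trans ?_ (comap_prime_app c hV hcV w hwV).symm
      congr 2
      exact Subtype.ext hw.symm
    have h3 := LiftPt.isSmoothAt_of_li (A := A) hS (fun j => ρ (g j)) hg' qw q.ResidueField hK hg
    exact (AlgebraicGeometry.formallySmooth_stalkMap_iff (f := c ≫ F) U₁ hU₁ (c ⁻¹ᵁ V) hcV hle' hwV).2 h3
  · -- generation
    obtain ⟨s, hs1, hs2⟩ := LiftStep.exists_gen ρ (kk i) hk q hA hC n e hn he m hm g hg
    have hzs : i z ∈ Y.basicOpen s := by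
      by_contra hcon
      have h1 := (mem_prime_iff hV (i z) hzV s).2 hcon
      rw [← hqB] at h1
      exact hs1 h1
    refine ⟨⟨Y.basicOpen s, hV.basicOpen s⟩, hzs, ?_⟩
    have hle2 : Y.basicOpen s ≤ V := Y.basicOpen_le s
    have hle3 : (⟨Y.basicOpen s, hV.basicOpen s⟩ : Y.affineOpens) ≤ ⟨V, hV⟩ := hle2
    have h1 := i.ker.map_ideal hle3
    have h2 := (i₁.ker.comap F ⊔ eqs fun j => (g j : Γ(Y, ⊤))).map_ideal hle3
    rw [← h1, ← h2]
    have h3 : i.ker.ideal ⟨V, hV⟩ = RingHom.ker (algebraMap B C) := i.ker_apply ⟨V, hV⟩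
    have h4 : (i₁.ker.comap F ⊔ eqs fun j => (g j : Γ(Y, ⊤))).ideal ⟨V, hV⟩ =
        (RingHom.ker (algebraMap A A')).map (algebraMap A B) ⊔ Ideal.span (Set.range fun j => ρ (g j)) := by
      rw [Scheme.IdealSheafData.ideal_sup, Pi.sup_apply, eqs_ideal,
        Divis.IdealComap.ideal_comap i₁.ker F ⟨U₁, hU₁⟩ ⟨V, hV⟩ hVU', i₁.ker_apply ⟨U₁, hU₁⟩]
      rfl
    rw [h3, h4]
    have hu : IsUnit (Y.presheaf.map (homOfLE hle2).op s) := Y.toRingedSpace.isUnit_res_basicOpen s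
    apply le_antisymm
    · rw [Ideal.map_le_iff_le_comap]
      intro b hb
      have h5 := Ideal.mem_map_of_mem (Y.presheaf.map (homOfLE hle2).op).hom (hs2 b hb)
      rw [map_mul] at h5
      exact (Ideal.unit_mul_mem_iff_mem _ hu).1 h5
    · refine Ideal.map_mono ?_
      rw [sup_le_iff]
      constructor
      · rw [Ideal.map_le_iff_le_comap]
        intro a ha
        change algebraMap B C (algebraMap A B a) = 0
        rw [← IsScalarTower.algebraMap_apply A B C, IsScalarTower.algebraMap_apply A A' C,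
          show algebraMap A A' a = 0 from ha, map_zero]
      · rw [Ideal.span_le]
        rintro _ ⟨j, rfl⟩
        exact (hk ▸ Ideal.mem_map_of_mem ρ (g j).2 : ρ (g j) ∈ RingHom.ker (algebraMap B C))

end Main

end K953.LiftGeom
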