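import Groth.Agent.BlochOgus.K953.LiftGen
import Groth.Agent.BlochOgus.K953.Avoid
import Mathlib.RingTheory.Flat.Basic

/-!
# The pointwise conditions for lifting smooth closed subschemes

* `li_transfer`: linear independence in `K ⊗ M` only depends on the kernel of `B → K`;
* `finrank_span_add`: the dimension of the space of differentials of the kernel of `B → C`;
* `isSmoothAt_of_li`: smoothness of `B / (g)` from the linear independence of the differentials;
* `exists_sub`: the submodules used in the avoidance argument.
-/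

set_option autoImplicit false

universe u

open TensorProduct KaehlerDifferential
open Groth.Agent

namespace K953.LiftPt

section LI

variable {B : Type u} [CommRing B] {M : Type u} [AddCommGroup M] [Module B M] {ι : Type*}

theorem li_down (K : Type u) [Field K] [Algebra B K] (k : Type u) [Field k] [Algebra B k] [Algebra k K]
    [IsScalarTower B k K] (m : ι → M) (h : LinearIndependent K (fun i => (1 : K) ⊗ₜ[B] m i)) :
    LinearIndependent k (fun i => (1 : k) ⊗ₜ[B] m i) := by
  let f : k ⊗[B] M →ₗ[k] K ⊗[B] M :=
    TensorProduct.AlgebraTensorModule.map (Algebra.linearMap k K) (LinearMap.id (R := B) (M := M))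
  refine LinearIndependent.of_comp f ?_
  have h1 : (f ∘ fun i => (1 : k) ⊗ₜ[B] m i) = fun i => (1 : K) ⊗ₜ[B] m i := by
    funext i
    simp [f]
  rw [h1]
  exact h.restrict_scalars (by
    intro a b hab
    simp only [Algebra.smul_def, mul_one] at hab
    exact (algebraMap k K).injective hab)

theorem li_up (K : Type u) [Field K] [Algebra B K] (k : Type u) [Field k] [Algebra B k] [Algebra k K]
    [IsScalarTower B k K] (m : ι → M) (h : LinearIndependent k (fun i => (1 : k) ⊗ₜ[B] m i)) :
    LinearIndependent K (fun i => (1 : K) ⊗ₜ[B] m i) := by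
  have h1 := Module.Flat.linearIndependent_one_tmul (S := K) h
  let e : K ⊗[k] (k ⊗[B] M) ≃ₗ[K] K ⊗[B] M := AlgebraTensorModule.cancelBaseChange B k K K M
  have h2 := h1.map' e.toLinearMap e.ker
  have h3 : (e.toLinearMap ∘ fun i => (1 : K) ⊗ₜ[k] ((1 : k) ⊗ₜ[B] m i)) = fun i => (1 : K) ⊗ₜ[B] m i := by
    funext i
    simp [e]
  rw [h3] at h2
  exact h2

theorem li_transfer (K₁ : Type u) [Field K₁] [Algebra B K₁] (K₂ : Type u) [Field K₂] [Algebra B K₂]
    (h12 : RingHom.ker (algebraMap B K₁) = RingHom.ker (algebraMap B K₂)) (m : ι → M)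
    (h : LinearIndependent K₁ (fun i => (1 : K₁) ⊗ₜ[B] m i)) :
    LinearIndependent K₂ (fun i => (1 : K₂) ⊗ₜ[B] m i) := by
  let p : Ideal B := RingHom.ker (algebraMap B K₁)
  have hp : p.IsPrime := RingHom.ker_isPrime _
  let k := p.ResidueField
  let φ₁ : k →+* K₁ := Ideal.ResidueField.lift p (algebraMap B K₁) le_rfl (by
    intro x hx
    rw [Submonoid.mem_comap, IsUnit.mem_submonoid_iff, isUnit_iff_ne_zero]
    exact hx)
  let φ₂ : k →+* K₂ := Ideal.ResidueField.lift p (algebraMap B K₂) h12.le (by
    intro x hx
    rw [Submonoid.mem_comap, IsUnit.mem_submonoid_iff, isUnit_iff_ne_zero]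
    intro h0
    exact hx (h12.ge h0))
  let a1 : Algebra k K₁ := φ₁.toAlgebra
  let a2 : Algebra k K₂ := φ₂.toAlgebra
  have t1 : IsScalarTower B k K₁ := IsScalarTower.of_algebraMap_eq fun a =>
    (Ideal.ResidueField.lift_algebraMap (I := p) (algebraMap B K₁) _ _ a).symm
  have t2 : IsScalarTower B k K₂ := IsScalarTower.of_algebraMap_eq fun a =>
    (Ideal.ResidueField.lift_algebraMap (I := p) (algebraMap B K₂) _ _ a).symm
  exact li_up K₂ k m (li_down K₁ k m h)

end LI

section Sub

open K953.Avoid

variable {R M : Type*} [CommRing R] [AddCommGroup M] [Module R M] {K V : Type*} [Field K] [AddCommGroup V] [Module K V]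

theorem exists_sub (σ : R →+* K) (φ : M → V) (h0 : φ 0 = 0) (hadd : ∀ m m', φ (m + m') = φ m + φ m')
    (hsmul : ∀ a m, φ (a • m) = σ a • φ m) (S : Submodule K V) (hS : ∃ m, φ m ∉ S) :
    ∃ N : Submodule R M, IsPr (RingHom.ker σ) N ∧ ∀ x, x ∉ N → φ x ∉ S := by
  refine ⟨{ carrier := {x | φ x ∈ S}
            add_mem' := fun {a b} ha hb => ?_
            zero_mem' := ?_
            smul_mem' := fun c x hx => ?_ }, ⟨?_, ?_, ?_⟩, fun x hx => hx⟩
  · change φ (a + b) ∈ S
    rw [hadd]
    exact add_mem ha hb
  · change φ 0 ∈ S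
    rw [h0]
    exact zero_mem _
  · change φ (c • x) ∈ S
    rw [hsmul]
    exact S.smul_mem _ hx
  · intro h
    obtain ⟨m, hm⟩ := hS
    exact hm ((Submodule.eq_top_iff'.1 h) m)
  · intro a ha m
    change φ (a • m) ∈ S
    rw [hsmul, show σ a = 0 from ha, zero_smul]
    exact zero_mem _
  · intro a ha m hm
    change φ (a • m) ∈ S at hm
    rw [hsmul] at hm
    exact (S.smul_mem_iff (show σ a ≠ 0 from ha)).1 hm

end Sub

section Kaehler

variable {A A' B C : Type u} [CommRing A] [CommRing A'] [CommRing B] [CommRing C]
  [Algebra A A'] [Algebra A B] [Algebra A C] [Algebra A' C] [Algebra B C] [IsScalarTower A A' C] [IsScalarTower A B C]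

/-- differentials do not change when the base is replaced by a quotient -/
theorem nonempty_omega (hA : Function.Surjective (algebraMap A A')) : Nonempty (Ω[C⁄A] ≃ₗ[C] Ω[C⁄A']) := by
  have : SMulCommClass A' C C := inferInstance
  let f : Ω[C⁄A] →ₗ[C] Ω[C⁄A'] := KaehlerDifferential.map A A' C C
  have hs : ∀ (a : A') (w : Ω[C⁄A]), a • w = algebraMap A' C a • w := fun a w => (algebraMap_smul C a w).symm
  let d : Derivation A' C Ω[C⁄A] :=
    { toFun := D A C
      map_add' := map_add _
      map_smul' := fun a c => by
        obtain ⟨a, rfl⟩ := hA a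
        have h1 : (algebraMap A A' a) • c = a • c := algebraMap_smul A' a c
        rw [h1, (D A C).map_smul, RingHom.id_apply, hs, ← IsScalarTower.algebraMap_apply A A' C, algebraMap_smul]
      map_one_eq_zero' := (D A C).map_one_eq_zero
      leibniz' := fun a b => (D A C).leibniz a b }
  let g : Ω[C⁄A'] →ₗ[C] Ω[C⁄A] := d.liftKaehlerDifferential
  have hf : ∀ c, f (D A C c) = D A' C c := fun c => KaehlerDifferential.map_D A A' C C c
  have hg : ∀ c, g (D A' C c) = D A C c := fun c => d.liftKaehlerDifferential_comp_D c
  refine ⟨LinearEquiv.ofLinearMap f g ?_ ?_⟩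
  · apply Derivation.liftKaehlerDifferential_unique
    ext c
    change f (g (D A' C c)) = D A' C c
    rw [hg, hf]
  · apply Derivation.liftKaehlerDifferential_unique
    ext c
    change g (f (D A C c)) = D A C c
    rw [hf, hg]

theorem finrank_span_add (hA : Function.Surjective (algebraMap A A')) (hC : Function.Surjective (algebraMap B C))
    (n e : ℕ) (hn : RingHom.Locally (RingHom.IsStandardSmoothOfRelativeDimension n) (algebraMap A B))
    (he : RingHom.Locally (RingHom.IsStandardSmoothOfRelativeDimension e) (algebraMap A' C)) (q : Ideal C) [q.IsPrime] :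
    Module.finrank q.ResidueField (Submodule.span q.ResidueField
      (Set.range fun b : RingHom.ker (algebraMap B C) => (1 : q.ResidueField) ⊗ₜ[B] D A B (b : B))) + e = n := by
  have hcomp : algebraMap B q.ResidueField = (algebraMap C q.ResidueField).comp (algebraMap B C) :=
    IsScalarTower.algebraMap_eq _ _ _
  let p : Ideal B := q.comap (algebraMap B C)
  obtain ⟨g, hg, hgs⟩ := Sga4B.RelDimUnique.exists_of_locally p n hn
  have hg' : algebraMap B q.ResidueField g ≠ 0 := by
    rw [hcomp, RingHom.comp_apply, Ne, Ideal.algebraMap_residueField_eq_zero]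
    exact hg
  have h1 : Module.finrank q.ResidueField (q.ResidueField ⊗[B] Ω[B⁄A]) = n :=
    Sga4B.RelDimUnique.finrank_eq q.ResidueField n g hg' hgs
  have h2 := Sga4B.RelDimUnique.finrank_residueField q e he
  obtain ⟨E⟩ := nonempty_omega (A := A) (A' := A') (C := C) hA
  have h3 : Module.finrank q.ResidueField (q.ResidueField ⊗[C] Ω[C⁄A]) = e := by
    rw [← h2]
    exact (TensorProduct.AlgebraTensorModule.congr (LinearEquiv.refl q.ResidueField q.ResidueField) E).finrank_eq
  have hsm : RingHom.Smooth (algebraMap A B) := by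
    rw [RingHom.smooth_iff_locally_isStandardSmooth]
    exact RingHom.locally_of_locally (fun h => h.isStandardSmooth) hn
  have hsm' : Algebra.Smooth A B := RingHom.smooth_algebraMap.1 hsm
  have h4 := Lefpen.H727.JacCrit.finrank_add_finrank_span (R := A) hC
    (fun b : RingHom.ker (algebraMap B C) => (b : B)) (by
      have hr : Set.range (fun b : RingHom.ker (algebraMap B C) => (b : B)) = RingHom.ker (algebraMap B C) :=
        Subtype.range_coe
      rw [hr]
      exact (Ideal.span_eq _).symm) q.ResidueField
  rw [h1, h3] at h4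
  omega

/-- smoothness of the quotient by elements with independent differentials -/
theorem isSmoothAt_of_li {A B S : Type u} [CommRing A] [CommRing B] [CommRing S] [Algebra A B] [Algebra B S]
    [Algebra A S] [IsScalarTower A B S] [Algebra.Smooth A B] (hS : Function.Surjective (algebraMap B S)) {ι : Type*}
    [Finite ι] (g : ι → B) (hg : RingHom.ker (algebraMap B S) = Ideal.span (Set.range g)) (q : Ideal S) [q.IsPrime]
    (K : Type u) [Field K] [Algebra B K]
    (hK : RingHom.ker (algebraMap B K) = q.comap (algebraMap B S))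
    (hli : LinearIndependent K (fun i => (1 : K) ⊗ₜ[B] D A B (g i))) : Algebra.IsSmoothAt A q := by
  have hfin : Module.Finite B (RingHom.ker (algebraMap B S)).Cotangent := by
    have : (RingHom.ker (algebraMap B S)).FG := by
      rw [hg]
      exact ⟨(Set.finite_range g).toFinset, by simp⟩
    have : Module.Finite B (RingHom.ker (algebraMap B S)) := Module.Finite.iff_fg.2 this
    exact Module.Finite.of_surjective _ (Ideal.toCotangent_surjective (RingHom.ker (algebraMap B S)))
  have h1 : RingHom.ker (algebraMap B K) = RingHom.ker (algebraMap B q.ResidueField) := by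
    rw [hK, IsScalarTower.algebraMap_eq B S q.ResidueField, ← RingHom.comap_ker]
    congr 1
    ext x
    rw [RingHom.mem_ker, Ideal.algebraMap_residueField_eq_zero]
  have h2 := li_transfer K q.ResidueField h1 (fun i => D A B (g i)) hli
  exact ((S2463.result (A := A) hS q).out 1 0).1
    (Lefpen.H727.JacCrit.lTensor_injective_of_linearIndependent (R := A) g hg q.ResidueField h2)

end Kaehler

end K953.LiftPt
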