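import Groth.Agent.BlochOgus.K953.LiftPt

/-!
# The pointwise conditions for lifting smooth closed subschemes, for global equations
-/

set_option autoImplicit false

universe u

open TensorProduct KaehlerDifferential
open Groth.Agent

namespace K953.LiftStep

variable {R A A' B C : Type u} [CommRing R] [CommRing A] [CommRing A'] [CommRing B] [CommRing C]
  [Algebra A A'] [Algebra A B] [Algebra A C] [Algebra A' C] [Algebra B C] [IsScalarTower A A' C] [IsScalarTower A B C]
  (ρ : R →+* B) (k : Ideal R)

/-- the differential of a global equation at a point -/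
noncomputable def phi (A : Type u) {R B C : Type u} [CommRing R] [CommRing A] [CommRing B] [CommRing C] [Algebra A B]
    [Algebra B C] (ρ : R →+* B) (k : Ideal R) (q : Ideal C) [q.IsPrime] (x : k) : q.ResidueField ⊗[B] Ω[B⁄A] :=
  (1 : q.ResidueField) ⊗ₜ[B] D A B (ρ (x : R))

variable (hk : k.map ρ = RingHom.ker (algebraMap B C)) (q : Ideal C) [q.IsPrime]

omit [Algebra A A'] [Algebra A C] [Algebra A' C] [IsScalarTower A A' C] [IsScalarTower A B C] [CommRing A'] in
include hk in
theorem phi_smul (a : R) (x : k) :
    phi A ρ k q (a • x) = ((algebraMap B q.ResidueField).comp ρ a) • phi A ρ k q x := by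
  have h0 : algebraMap B q.ResidueField (ρ (x : R)) = 0 := by
    have h1 : ρ (x : R) ∈ RingHom.ker (algebraMap B C) := hk ▸ Ideal.mem_map_of_mem ρ x.2
    rw [IsScalarTower.algebraMap_apply B C q.ResidueField, show algebraMap B C (ρ (x : R)) = 0 from h1, map_zero]
  unfold phi
  rw [show ρ ((a • x : k) : R) = ρ a * ρ (x : R) from by rw [← map_mul]; rfl, Derivation.leibniz,
    TensorProduct.tmul_add, ← TensorProduct.smul_tmul, ← TensorProduct.smul_tmul, Algebra.smul_def (ρ (x : R)), h0,
    zero_mul, TensorProduct.zero_tmul, add_zero, TensorProduct.smul_tmul', Algebra.smul_def, smul_eq_mul]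
  rfl

omit [Algebra A A'] [Algebra A C] [Algebra A' C] [IsScalarTower A A' C] [IsScalarTower A B C] [CommRing A'] in
include hk in
theorem span_eq : Submodule.span q.ResidueField (Set.range (phi A ρ k q)) = Submodule.span q.ResidueField
      (Set.range fun b : RingHom.ker (algebraMap B C) => (1 : q.ResidueField) ⊗ₜ[B] D A B (b : B)) := by
  apply le_antisymm
  · rw [Submodule.span_le]
    rintro _ ⟨x, rfl⟩
    exact Submodule.subset_span ⟨⟨ρ x, hk ▸ Ideal.mem_map_of_mem ρ x.2⟩, rfl⟩
  · rw [Submodule.span_le]
    rintro _ ⟨⟨b, hb⟩, rfl⟩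
    change (1 : q.ResidueField) ⊗ₜ[B] D A B b ∈ _
    have hb' := hb
    rw [← hk] at hb'
    clear hb
    induction hb' using Submodule.span_induction with
    | mem x hx =>
      obtain ⟨y, hy, rfl⟩ := hx
      exact Submodule.subset_span ⟨⟨y, hy⟩, rfl⟩
    | zero => simp
    | add x y _ _ hx hy => rw [map_add, TensorProduct.tmul_add]; exact add_mem hx hy
    | smul c x hx' hx =>
      have hx0 : algebraMap B q.ResidueField x = 0 := by
        have h1 : x ∈ RingHom.ker (algebraMap B C) := hk ▸ hx'
        rw [IsScalarTower.algebraMap_apply B C q.ResidueField, show algebraMap B C x = 0 from h1, map_zero]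
      rw [smul_eq_mul, Derivation.leibniz, TensorProduct.tmul_add, ← TensorProduct.smul_tmul c,
        ← TensorProduct.smul_tmul x, Algebra.smul_def x, hx0, zero_mul, TensorProduct.zero_tmul, add_zero]
      have : (c • (1 : q.ResidueField)) ⊗ₜ[B] D A B x = (algebraMap B q.ResidueField c) • ((1 : q.ResidueField) ⊗ₜ[B] D A B x) := by
        rw [TensorProduct.smul_tmul', Algebra.smul_def, smul_eq_mul]
      rw [this]
      exact Submodule.smul_mem _ _ hx

variable (hA : Function.Surjective (algebraMap A A')) (hC : Function.Surjective (algebraMap B C))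
    (n e : ℕ) (hn : RingHom.Locally (RingHom.IsStandardSmoothOfRelativeDimension n) (algebraMap A B))
    (he : RingHom.Locally (RingHom.IsStandardSmoothOfRelativeDimension e) (algebraMap A' C))

theorem smoothAB {A B : Type u} [CommRing A] [CommRing B] [Algebra A B] (n : ℕ)
    (hn : RingHom.Locally (RingHom.IsStandardSmoothOfRelativeDimension n) (algebraMap A B)) : Algebra.Smooth A B := by
  have hsm : RingHom.Smooth (algebraMap A B) := by
    rw [RingHom.smooth_iff_locally_isStandardSmooth]
    exact RingHom.locally_of_locally (fun h => h.isStandardSmooth) hn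
  exact RingHom.smooth_algebraMap.1 hsm

include hk hA hC hn he

theorem finrank_add : Module.finrank q.ResidueField (Submodule.span q.ResidueField (Set.range (phi A ρ k q))) + e = n := by
  rw [span_eq ρ k hk q]
  exact LiftPt.finrank_span_add hA hC n e hn he q

theorem exists_step (m : ℕ) (hm : m + e < n) (g : Fin m → k)
    (hg : LinearIndependent q.ResidueField (fun i => phi A ρ k q (g i))) :
    ∃ N : Submodule R k, Avoid.IsPr (RingHom.ker ((algebraMap B q.ResidueField).comp ρ)) N ∧
      ∀ x, x ∉ N → LinearIndependent q.ResidueField (fun i => phi A ρ k q ((Fin.cons x g : Fin (m + 1) → k) i)) := by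
  have hAB : Algebra.Smooth A B := smoothAB n hn
  let S := Submodule.span q.ResidueField (Set.range fun i => phi A ρ k q (g i))
  obtain ⟨N, hN, hN'⟩ := LiftPt.exists_sub ((algebraMap B q.ResidueField).comp ρ) (phi A ρ k q)
    (by simp [phi]) (fun x y => by
      unfold phi
      rw [show ρ ((x + y : k) : R) = ρ x + ρ y from by rw [← map_add]; rfl, map_add, TensorProduct.tmul_add])
    (phi_smul ρ k hk q) S (by
      by_contra hcon
      push Not at hcon
      have h1 : Submodule.span q.ResidueField (Set.range (phi A ρ k q)) ≤ S := by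
        rw [Submodule.span_le]
        rintro _ ⟨x, rfl⟩
        exact hcon x
      have h2 := finrank_add (A := A) (A' := A') ρ k hk q hA hC n e hn he
      have h3 : Module.finrank q.ResidueField S ≤ m := by
        have := finrank_range_le_card (R := q.ResidueField) (fun i => phi A ρ k q (g i))
        rwa [Fintype.card_fin] at this
      have h4 := Submodule.finrank_mono h1
      omega)
  refine ⟨N, hN, fun x hx => ?_⟩
  have h5 : (fun i => phi A ρ k q ((Fin.cons x g : Fin (m + 1) → k) i)) =
      (Fin.cons (phi A ρ k q x) (fun i => phi A ρ k q (g i)) : Fin (m + 1) → _) := by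
    funext i
    refine Fin.cases ?_ (fun j => ?_) i
    · simp
    · simp
  rw [h5, linearIndependent_finCons]
  exact ⟨hg, hN' x hx⟩

theorem exists_gen (m : ℕ) (hm : m + e = n) (g : Fin m → k)
    (hg : LinearIndependent q.ResidueField (fun i => phi A ρ k q (g i))) :
    ∃ s : B, algebraMap B C s ∉ q ∧ ∀ b, algebraMap B C b = 0 →
      s * b ∈ (RingHom.ker (algebraMap A A')).map (algebraMap A B) ⊔ Ideal.span (Set.range fun i => ρ (g i)) := by
  have hAB : Algebra.Smooth A B := smoothAB n hn
  have hA'C : Algebra.Smooth A' C := smoothAB e he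
  have h1 : Submodule.span q.ResidueField (Set.range fun i => phi A ρ k q (g i)) =
      Submodule.span q.ResidueField (Set.range (phi A ρ k q)) := by
    apply Submodule.eq_of_le_of_finrank_eq
    · exact Submodule.span_mono (by rintro _ ⟨i, rfl⟩; exact ⟨g i, rfl⟩)
    · have h2 := finrank_add (A := A) (A' := A') ρ k hk q hA hC n e hn he
      have h3 := linearIndependent_iff_card_eq_finrank_span.1 hg
      rw [Fintype.card_fin, Set.finrank] at h3
      omega
  have hloc : Algebra.FormallySmooth A' (Localization.AtPrime q) :=
    Algebra.FormallySmooth.comp A' C (Localization.AtPrime q)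
  refine LiftGen.exists_mul_mem_map hA hC q (fun i => ρ (g i)) (fun i => ?_) (fun b hb => ?_)
  · exact (hk ▸ Ideal.mem_map_of_mem ρ (g i).2 : ρ (g i) ∈ RingHom.ker (algebraMap B C))
  · change _ ∈ Submodule.span q.ResidueField (Set.range fun i => phi A ρ k q (g i))
    rw [h1, span_eq ρ k hk q]
    exact Submodule.subset_span ⟨⟨b, hb⟩, rfl⟩

end K953.LiftStep
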